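import Cfsg.Prelude.Def_SporCoxeter

/-!
The diagram Y522 with the spider relation and one more relation.
-/

set_option autoImplicit false

namespace CfsgLib.CosetEnum.Spider522

/-- The letters. -/
inductive Pr.Gen
  | b
  | c
  | d
  | e
  | f
  | g
  | j
  | k
  | h
  | i
  deriving DecidableEq

namespace Pr

/-- The letter b as a word. -/
abbrev b : FreeGroup Gen := FreeGroup.of Gen.b
/-- The letter c as a word. -/
abbrev c : FreeGroup Gen := FreeGroup.of Gen.c
/-- The letter d as a word. -/
abbrev d : FreeGroup Gen := FreeGroup.of Gen.d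
/-- The letter e as a word. -/
abbrev e : FreeGroup Gen := FreeGroup.of Gen.e
/-- The letter f as a word. -/
abbrev f : FreeGroup Gen := FreeGroup.of Gen.f
/-- The letter g as a word. -/
abbrev g : FreeGroup Gen := FreeGroup.of Gen.g
/-- The letter j as a word. -/
abbrev j : FreeGroup Gen := FreeGroup.of Gen.j
/-- The letter k as a word. -/
abbrev k : FreeGroup Gen := FreeGroup.of Gen.k
/-- The letter h as a word. -/
abbrev h : FreeGroup Gen := FreeGroup.of Gen.h
/-- The letter i as a word. -/
abbrev i : FreeGroup Gen := FreeGroup.of Gen.i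

/-- The diagram. -/
def edges : List (Gen × ℕ × Gen) := [(.b, 3, .c), (.c, 3, .d), (.d, 3, .e), (.e, 3, .f), (.f, 3, .g), (.g, 3, .j), (.j, 3, .k), (.d, 3, .h), (.h, 3, .i)]

/-- The further relators. -/
def extra : List (FreeGroup Gen) := [
  (d * c * b * d * e * f * d * h * i) ^ 10,
  ((d * e * c * h * f * b * g) ^ 9 * j) ^ 3]

end Pr

/-- The group. -/
abbrev Pr : Type := Cfsg.Spor.CoxPresented Pr.Gen Pr.edges Pr.extra

end CfsgLib.CosetEnum.Spider522
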